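import Cfsg.Agent.H804.ThSylData

/-!
Relations of the Sylow 3-subgroup of the Thompson group: checks of products of packed matrices.
-/

set_option autoImplicit false
set_option Elab.async false

namespace Cfsg.Agent.H804.ThSyl

open Cfsg.Agent.Th.Words248

set_option maxRecDepth 100000
set_option maxHeartbeats 400000

theorem k_c0 : Nat.beq (mul (mul H0 H0) H0)
    (H7) = true := by decide +kernel

theorem k_c1 : Nat.beq (mul (mul H1 H1) H1)
    (idm) = true := by decide +kernel

theorem k_c2 : Nat.beq (mul (mul H2 H2) H2)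
    (idm) = true := by decide +kernel

theorem k_c3 : Nat.beq (mul (mul H3 H3) H3)
    (mul H9 H9) = true := by decide +kernel

theorem k_c4 : Nat.beq (mul (mul H4 H4) H4)
    (idm) = true := by decide +kernel

theorem k_c5 : Nat.beq (mul (mul H5 H5) H5)
    (idm) = true := by decide +kernel

theorem k_c6 : Nat.beq (mul (mul H6 H6) H6)
    (idm) = true := by decide +kernel

theorem k_c7 : Nat.beq (mul (mul H7 H7) H7)
    (idm) = true := by decide +kernel

theorem k_c8 : Nat.beq (mul (mul H8 H8) H8)
    (idm) = true := by decide +kernel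

theorem k_c9 : Nat.beq (mul (mul H9 H9) H9)
    (idm) = true := by decide +kernel

theorem k_r10 : Nat.beq (mul H1 H0)
    (mul (mul H0 H1) (mul (mul (mul H2 H3) H4) (mul H5 H5))) = true := by decide +kernel

theorem k_r20 : Nat.beq (mul H2 H0)
    (mul (mul H0 H2) (mul (mul H3 H3) (mul H7 H7))) = true := by decide +kernel

theorem k_r30 : Nat.beq (mul H3 H0)
    (mul H0 H3) = true := by decide +kernel

theorem k_r40 : Nat.beq (mul H4 H0)
    (mul H0 H4) = true := by decide +kernel

theorem k_r50 : Nat.beq (mul H5 H0)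
    (mul (mul H0 H5) (mul H6 H7)) = true := by decide +kernel

theorem k_r60 : Nat.beq (mul H6 H0)
    (mul (mul H0 H6) (mul H7 H7)) = true := by decide +kernel

theorem k_r70 : Nat.beq (mul H7 H0)
    (mul H0 H7) = true := by decide +kernel

theorem k_r80 : Nat.beq (mul H8 H0)
    (mul (mul H0 H8) H9) = true := by decide +kernel

theorem k_r90 : Nat.beq (mul H9 H0)
    (mul H0 H9) = true := by decide +kernel

theorem k_r21 : Nat.beq (mul H2 H1)
    (mul H1 H2) = true := by decide +kernel

theorem k_r31 : Nat.beq (mul H3 H1)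
    (mul (mul H1 H3) (mul H6 H6)) = true := by decide +kernel

theorem k_r41 : Nat.beq (mul H4 H1)
    (mul (mul H1 H4) (mul (mul H5 (mul H8 H8)) (mul H9 H9))) = true := by decide +kernel

theorem k_r51 : Nat.beq (mul H5 H1)
    (mul (mul H1 H5) H8) = true := by decide +kernel

theorem k_r61 : Nat.beq (mul H6 H1)
    (mul (mul H1 H6) H9) = true := by decide +kernel

theorem k_r71 : Nat.beq (mul H7 H1)
    (mul (mul H1 H7) (mul H8 H8)) = true := by decide +kernel

theorem k_r81 : Nat.beq (mul H8 H1)
    (mul H1 H8) = true := by decide +kernel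

theorem k_r91 : Nat.beq (mul H9 H1)
    (mul H1 H9) = true := by decide +kernel

theorem k_r32 : Nat.beq (mul H3 H2)
    (mul (mul H2 H3) (mul (mul H7 H7) (mul H9 H9))) = true := by decide +kernel

end Cfsg.Agent.H804.ThSyl
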