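import Cfsg.Agent.H804.ThSylData

/-!
Relations of the Sylow 3-subgroup of the Thompson group: checks of products of packed matrices.
-/

set_option autoImplicit false
set_option Elab.async false

namespace Cfsg.Agent.H804.ThSyl

open Cfsg.Agent.Th.Words248

set_option maxRecDepth 100000
set_option maxHeartbeats 400000

theorem k_r42 : Nat.beq (mul H4 H2)
    (mul (mul H2 H4) (mul H6 H8)) = true := by decide +kernel

theorem k_r52 : Nat.beq (mul H5 H2)
    (mul (mul H2 H5) H9) = true := by decide +kernel

theorem k_r62 : Nat.beq (mul H6 H2)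
    (mul (mul H2 H6) (mul H8 H8)) = true := by decide +kernel

theorem k_r72 : Nat.beq (mul H7 H2)
    (mul (mul H2 H7) (mul H9 H9)) = true := by decide +kernel

theorem k_r82 : Nat.beq (mul H8 H2)
    (mul H2 H8) = true := by decide +kernel

theorem k_r92 : Nat.beq (mul H9 H2)
    (mul H2 H9) = true := by decide +kernel

theorem k_r43 : Nat.beq (mul H4 H3)
    (mul (mul H3 H4) H7) = true := by decide +kernel

theorem k_r53 : Nat.beq (mul H5 H3)
    (mul (mul H3 H5) (mul H8 H8)) = true := by decide +kernel

theorem k_r63 : Nat.beq (mul H6 H3)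
    (mul (mul H3 H6) (mul H9 H9)) = true := by decide +kernel

theorem k_r73 : Nat.beq (mul H7 H3)
    (mul H3 H7) = true := by decide +kernel

theorem k_r83 : Nat.beq (mul H8 H3)
    (mul H3 H8) = true := by decide +kernel

theorem k_r93 : Nat.beq (mul H9 H3)
    (mul H3 H9) = true := by decide +kernel

theorem k_r54 : Nat.beq (mul H5 H4)
    (mul (mul H4 H5) H9) = true := by decide +kernel

theorem k_r64 : Nat.beq (mul H6 H4)
    (mul H4 H6) = true := by decide +kernel

theorem k_r74 : Nat.beq (mul H7 H4)
    (mul H4 H7) = true := by decide +kernel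

theorem k_r84 : Nat.beq (mul H8 H4)
    (mul H4 H8) = true := by decide +kernel

theorem k_r94 : Nat.beq (mul H9 H4)
    (mul H4 H9) = true := by decide +kernel

theorem k_r65 : Nat.beq (mul H6 H5)
    (mul H5 H6) = true := by decide +kernel

theorem k_r75 : Nat.beq (mul H7 H5)
    (mul H5 H7) = true := by decide +kernel

theorem k_r85 : Nat.beq (mul H8 H5)
    (mul H5 H8) = true := by decide +kernel

theorem k_r95 : Nat.beq (mul H9 H5)
    (mul H5 H9) = true := by decide +kernel

theorem k_r76 : Nat.beq (mul H7 H6)
    (mul H6 H7) = true := by decide +kernel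

theorem k_r86 : Nat.beq (mul H8 H6)
    (mul H6 H8) = true := by decide +kernel

theorem k_r96 : Nat.beq (mul H9 H6)
    (mul H6 H9) = true := by decide +kernel

theorem k_r87 : Nat.beq (mul H8 H7)
    (mul H7 H8) = true := by decide +kernel

theorem k_r97 : Nat.beq (mul H9 H7)
    (mul H7 H9) = true := by decide +kernel

theorem k_r98 : Nat.beq (mul H9 H8)
    (mul H8 H9) = true := by decide +kernel

end Cfsg.Agent.H804.ThSyl
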