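import Cfsg.Agent.Th.Final
import Cfsg.Agent.H776.ThRels
import Cfsg.Agent.H804.ThSylGen
import Cfsg.Agent.H804.ThSylRel0
import Cfsg.Agent.H804.ThSylRel1

/-!
Task of helper776 (S5228): elements of the Thompson group satisfying the relations of the polycyclic presentation of
its Sylow 3-subgroup.
-/

set_option autoImplicit false
set_option maxRecDepth 100000
set_option maxHeartbeats 400000

namespace Cfsg.Agent.H804.ThSyl

open Cfsg.Agent.Th.Words248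

theorem k_ne : Nat.beq H9 idm = false := by decide +kernel

theorem rels_of {h : Fin 10 → Cfsg.Spor.Th} (v0 : V (h 0) H0) (v1 : V (h 1) H1) (v2 : V (h 2) H2) (v3 : V (h 3) H3)
    (v4 : V (h 4) H4) (v5 : V (h 5) H5) (v6 : V (h 6) H6) (v7 : V (h 7) H7) (v8 : V (h 8) H8) (v9 : V (h 9) H9) :
    Cfsg.Agent.H776.ThS.Rels h where
  c0 := V.eq Cfsg.Agent.Th.Final.rho_injective (V.three v0)
    v7 k_c0
  c1 := V.eq Cfsg.Agent.Th.Final.rho_injective (V.three v1)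
    V.one k_c1
  c2 := V.eq Cfsg.Agent.Th.Final.rho_injective (V.three v2)
    V.one k_c2
  c3 := V.eq Cfsg.Agent.Th.Final.rho_injective (V.three v3)
    (V.two v9) k_c3
  c4 := V.eq Cfsg.Agent.Th.Final.rho_injective (V.three v4)
    V.one k_c4
  c5 := V.eq Cfsg.Agent.Th.Final.rho_injective (V.three v5)
    V.one k_c5
  c6 := V.eq Cfsg.Agent.Th.Final.rho_injective (V.three v6)
    V.one k_c6
  c7 := V.eq Cfsg.Agent.Th.Final.rho_injective (V.three v7)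
    V.one k_c7
  c8 := V.eq Cfsg.Agent.Th.Final.rho_injective (V.three v8)
    V.one k_c8
  c9 := V.eq Cfsg.Agent.Th.Final.rho_injective (V.three v9)
    V.one k_c9
  r10 := V.eq Cfsg.Agent.Th.Final.rho_injective (V.mul v1 v0)
    (V.mul (V.mul v0 v1) (V.mul (V.mul (V.mul v2 v3) v4) (V.two v5))) k_r10
  r20 := V.eq Cfsg.Agent.Th.Final.rho_injective (V.mul v2 v0)
    (V.mul (V.mul v0 v2) (V.mul (V.two v3) (V.two v7))) k_r20
  r30 := V.eq Cfsg.Agent.Th.Final.rho_injective (V.mul v3 v0)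
    (V.mul v0 v3) k_r30
  r40 := V.eq Cfsg.Agent.Th.Final.rho_injective (V.mul v4 v0)
    (V.mul v0 v4) k_r40
  r50 := V.eq Cfsg.Agent.Th.Final.rho_injective (V.mul v5 v0)
    (V.mul (V.mul v0 v5) (V.mul v6 v7)) k_r50
  r60 := V.eq Cfsg.Agent.Th.Final.rho_injective (V.mul v6 v0)
    (V.mul (V.mul v0 v6) (V.two v7)) k_r60
  r70 := V.eq Cfsg.Agent.Th.Final.rho_injective (V.mul v7 v0)
    (V.mul v0 v7) k_r70
  r80 := V.eq Cfsg.Agent.Th.Final.rho_injective (V.mul v8 v0)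
    (V.mul (V.mul v0 v8) v9) k_r80
  r90 := V.eq Cfsg.Agent.Th.Final.rho_injective (V.mul v9 v0)
    (V.mul v0 v9) k_r90
  r21 := V.eq Cfsg.Agent.Th.Final.rho_injective (V.mul v2 v1)
    (V.mul v1 v2) k_r21
  r31 := V.eq Cfsg.Agent.Th.Final.rho_injective (V.mul v3 v1)
    (V.mul (V.mul v1 v3) (V.two v6)) k_r31
  r41 := V.eq Cfsg.Agent.Th.Final.rho_injective (V.mul v4 v1)
    (V.mul (V.mul v1 v4) (V.mul (V.mul v5 (V.two v8)) (V.two v9))) k_r41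
  r51 := V.eq Cfsg.Agent.Th.Final.rho_injective (V.mul v5 v1)
    (V.mul (V.mul v1 v5) v8) k_r51
  r61 := V.eq Cfsg.Agent.Th.Final.rho_injective (V.mul v6 v1)
    (V.mul (V.mul v1 v6) v9) k_r61
  r71 := V.eq Cfsg.Agent.Th.Final.rho_injective (V.mul v7 v1)
    (V.mul (V.mul v1 v7) (V.two v8)) k_r71
  r81 := V.eq Cfsg.Agent.Th.Final.rho_injective (V.mul v8 v1)
    (V.mul v1 v8) k_r81
  r91 := V.eq Cfsg.Agent.Th.Final.rho_injective (V.mul v9 v1)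
    (V.mul v1 v9) k_r91
  r32 := V.eq Cfsg.Agent.Th.Final.rho_injective (V.mul v3 v2)
    (V.mul (V.mul v2 v3) (V.mul (V.two v7) (V.two v9))) k_r32
  r42 := V.eq Cfsg.Agent.Th.Final.rho_injective (V.mul v4 v2)
    (V.mul (V.mul v2 v4) (V.mul v6 v8)) k_r42
  r52 := V.eq Cfsg.Agent.Th.Final.rho_injective (V.mul v5 v2)
    (V.mul (V.mul v2 v5) v9) k_r52
  r62 := V.eq Cfsg.Agent.Th.Final.rho_injective (V.mul v6 v2)
    (V.mul (V.mul v2 v6) (V.two v8)) k_r62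
  r72 := V.eq Cfsg.Agent.Th.Final.rho_injective (V.mul v7 v2)
    (V.mul (V.mul v2 v7) (V.two v9)) k_r72
  r82 := V.eq Cfsg.Agent.Th.Final.rho_injective (V.mul v8 v2)
    (V.mul v2 v8) k_r82
  r92 := V.eq Cfsg.Agent.Th.Final.rho_injective (V.mul v9 v2)
    (V.mul v2 v9) k_r92
  r43 := V.eq Cfsg.Agent.Th.Final.rho_injective (V.mul v4 v3)
    (V.mul (V.mul v3 v4) v7) k_r43
  r53 := V.eq Cfsg.Agent.Th.Final.rho_injective (V.mul v5 v3)
    (V.mul (V.mul v3 v5) (V.two v8)) k_r53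
  r63 := V.eq Cfsg.Agent.Th.Final.rho_injective (V.mul v6 v3)
    (V.mul (V.mul v3 v6) (V.two v9)) k_r63
  r73 := V.eq Cfsg.Agent.Th.Final.rho_injective (V.mul v7 v3)
    (V.mul v3 v7) k_r73
  r83 := V.eq Cfsg.Agent.Th.Final.rho_injective (V.mul v8 v3)
    (V.mul v3 v8) k_r83
  r93 := V.eq Cfsg.Agent.Th.Final.rho_injective (V.mul v9 v3)
    (V.mul v3 v9) k_r93
  r54 := V.eq Cfsg.Agent.Th.Final.rho_injective (V.mul v5 v4)
    (V.mul (V.mul v4 v5) v9) k_r54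
  r64 := V.eq Cfsg.Agent.Th.Final.rho_injective (V.mul v6 v4)
    (V.mul v4 v6) k_r64
  r74 := V.eq Cfsg.Agent.Th.Final.rho_injective (V.mul v7 v4)
    (V.mul v4 v7) k_r74
  r84 := V.eq Cfsg.Agent.Th.Final.rho_injective (V.mul v8 v4)
    (V.mul v4 v8) k_r84
  r94 := V.eq Cfsg.Agent.Th.Final.rho_injective (V.mul v9 v4)
    (V.mul v4 v9) k_r94
  r65 := V.eq Cfsg.Agent.Th.Final.rho_injective (V.mul v6 v5)
    (V.mul v5 v6) k_r65
  r75 := V.eq Cfsg.Agent.Th.Final.rho_injective (V.mul v7 v5)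
    (V.mul v5 v7) k_r75
  r85 := V.eq Cfsg.Agent.Th.Final.rho_injective (V.mul v8 v5)
    (V.mul v5 v8) k_r85
  r95 := V.eq Cfsg.Agent.Th.Final.rho_injective (V.mul v9 v5)
    (V.mul v5 v9) k_r95
  r76 := V.eq Cfsg.Agent.Th.Final.rho_injective (V.mul v7 v6)
    (V.mul v6 v7) k_r76
  r86 := V.eq Cfsg.Agent.Th.Final.rho_injective (V.mul v8 v6)
    (V.mul v6 v8) k_r86
  r96 := V.eq Cfsg.Agent.Th.Final.rho_injective (V.mul v9 v6)
    (V.mul v6 v9) k_r96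
  r87 := V.eq Cfsg.Agent.Th.Final.rho_injective (V.mul v8 v7)
    (V.mul v7 v8) k_r87
  r97 := V.eq Cfsg.Agent.Th.Final.rho_injective (V.mul v9 v7)
    (V.mul v7 v9) k_r97
  r98 := V.eq Cfsg.Agent.Th.Final.rho_injective (V.mul v9 v8)
    (V.mul v8 v9) k_r98

theorem exists_syl_gens : ∃ h : Fin 10 → Cfsg.Spor.Th, Cfsg.Agent.H776.ThS.Rels h ∧ h 9 ≠ 1 := by
  obtain ⟨x0, x1, x2, x3, x4, x5, x6, x7, x8, x9, v0, v1, v2, v3, v4, v5, v6, v7, v8, v9⟩ := exists_elts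
  exact ⟨![x0, x1, x2, x3, x4, x5, x6, x7, x8, x9], rels_of v0 v1 v2 v3 v4 v5 v6 v7 v8 v9, V.ne v9 V.one k_ne⟩

end Cfsg.Agent.H804.ThSyl
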